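import Cfsg.Agent.H477.HC.RowSp

/-!
# The degrees `dg (spF K m) k` (helper362)

`card_tup` : the number of totally singular `k`-frames; `card_Om_sp` : the number of totally singular `k`-spaces of the
symplectic space of dimension `2m`; `dg_sp` : `(q^k - 1) dg = ∏_{i<k} (q^(2(m-i)) - 1)`; `dg_lt` : strict monotonicity.
-/

set_option autoImplicit false
set_option linter.unusedSectionVars false

open Cfsg

namespace Cfsg.Agent.H362.Dl

open Cfsg.Agent.H477.HC Module Cfsg.Agent.H53.HC

universe u v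

section general

variable {K : Type u} [Field K] {V : Type v} [AddCommGroup V] [Module K V] (F : CForm K V)

/-- totally singular frames -/
def Tup (k : ℕ) : Type v :=
  {s : Fin k → V // LinearIndependent K s ∧ (∀ i, F.Q (s i) = 0) ∧ ∀ i j, F.B (s i) (s j) = 0}

variable [Finite K] [Finite V]

instance (k : ℕ) : Finite (Tup F k) := by
  unfold Tup
  infer_instance

/-- the frames of a space `W` -/
theorem card_frames (W : Submodule K V) {k : ℕ} (hW : finrank K W = k) :
    Nat.card {s : Fin k → W // LinearIndependent K s} = ∏ i ∈ Finset.range k, (Nat.card K ^ k - Nat.card K ^ i) := by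
  classical
  let _ := Fintype.ofFinite K
  rw [card_linearIndependent (by rw [hW]), hW, Finset.prod_range, Nat.card_eq_fintype_card (α := K)]

theorem card_tup (k : ℕ) : Nat.card (Tup F k) = Nat.card (F.Om k) * ∏ i ∈ Finset.range k, (Nat.card K ^ k - Nat.card K ^ i) := by
  classical
  have := finite_Om F k
  let _ := Fintype.ofFinite (F.Om k)
  let f : Tup F k → F.Om k := fun s => ⟨Submodule.span K (Set.range s.1), F.TS_span s.2.2.2 s.2.2.1, by
    rw [finrank_span_eq_card s.2.1, Fintype.card_fin]⟩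
  have h1 : ∀ W : F.Om k, Nat.card {t : Tup F k // f t = W} = ∏ i ∈ Finset.range k, (Nat.card K ^ k - Nat.card K ^ i) := by
    intro W
    rw [← card_frames W.1 W.2.2]
    refine Nat.card_congr
      { toFun := fun t => ⟨fun i => ⟨t.1.1 i, ?_⟩, ?_⟩
        invFun := fun s => ⟨⟨fun i => (s.1 i : V), ?_, fun i => W.2.1.1 _ (s.1 i).2, fun i j => W.2.1.2 _ (s.1 i).2 _ (s.1 j).2⟩, ?_⟩
        left_inv := fun t => rfl
        right_inv := fun s => rfl }
    · have : Submodule.span K (Set.range t.1.1) = W.1 := congrArg Subtype.val t.2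
      rw [← this]
      exact Submodule.subset_span ⟨i, rfl⟩
    · refine LinearIndependent.of_comp W.1.subtype ?_
      exact t.1.2.1
    · exact s.2.map' W.1.subtype (Submodule.ker_subtype _)
    · apply Subtype.ext
      apply Submodule.eq_of_le_of_finrank_eq
      · rw [Submodule.span_le]
        rintro _ ⟨i, rfl⟩
        exact (s.1 i).2
      · have h2 : LinearIndependent K (fun i => (s.1 i : V)) := s.2.map' W.1.subtype (Submodule.ker_subtype _)
        rw [finrank_span_eq_card h2, Fintype.card_fin]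
        exact W.2.2.symm
  rw [Nat.card_congr (Equiv.sigmaFiberEquiv f).symm, Nat.card_sigma, Finset.sum_congr rfl fun W _ => h1 W,
    Finset.sum_const, Finset.card_univ, smul_eq_mul, Nat.card_eq_fintype_card (α := F.Om k)]

/-- the dimension of the orthogonal complement -/
theorem finrank_perp_span [FiniteDimensional K V] {k : ℕ} {s : Fin k → V} (hs : LinearIndependent K s) :
    finrank K (F.perp (Submodule.span K (Set.range s))) + k = finrank K V := by
  classical
  let L : V →ₗ[K] (Fin k → K) := LinearMap.pi fun i => F.lf (s i)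
  have hL : LinearMap.range L = ⊤ := by
    by_contra hne
    obtain ⟨y, hy⟩ : ∃ y, y ∉ LinearMap.range L := by
      by_contra h
      push Not at h
      exact hne (eq_top_iff.2 fun y _ => h y)
    obtain ⟨g, hg, hg'⟩ := Submodule.exists_dual_map_eq_bot_of_notMem hy inferInstance
    apply hg
    have hc : ∀ v, g (L v) = 0 := by
      intro v
      have : g (L v) ∈ (LinearMap.range L).map g := ⟨_, ⟨v, rfl⟩, rfl⟩
      rw [hg'] at this
      exact (Submodule.mem_bot K).1 this
    have hgsum : ∀ x : Fin k → K, g x = ∑ i, x i * g (Pi.single i 1) := by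
      intro x
      conv_lhs => rw [← Finset.univ_sum_single x]
      rw [map_sum]
      refine Finset.sum_congr rfl fun i _ => ?_
      have : (Pi.single i (x i) : Fin k → K) = x i • Pi.single i 1 := by
        rw [← Pi.single_smul, smul_eq_mul, mul_one]
      rw [this, map_smul, smul_eq_mul]
    have h0 : ∑ i, F.σ (g (Pi.single i 1)) • s i = 0 := by
      refine F.nondeg _ fun v => F.B_eq_zero ?_
      rw [CForm.B_sum_right]
      have h1 := hc v
      rw [hgsum] at h1
      rw [← h1]
      refine Finset.sum_congr rfl fun i _ => ?_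
      rw [F.σσ, mul_comm]
      rfl
    rw [Fintype.linearIndependent_iff] at hs
    have h2 : ∀ i, g (Pi.single i 1) = 0 := fun i => by
      have := hs _ h0 i
      rwa [map_eq_zero] at this
    rw [hgsum]
    exact Finset.sum_eq_zero fun i _ => by rw [h2, mul_zero]
  have hker : F.perp (Submodule.span K (Set.range s)) = LinearMap.ker L := by
    ext v
    rw [LinearMap.mem_ker]
    constructor
    · intro h
      funext i
      exact h _ (Submodule.subset_span ⟨i, rfl⟩)
    · intro h w hw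
      obtain ⟨g, rfl⟩ := (Submodule.mem_span_range_iff_exists_fun K).1 hw
      rw [CForm.B_sum_right]
      exact Finset.sum_eq_zero fun i _ => by
        have : F.B v (s i) = 0 := congrFun h i
        rw [this, mul_zero]
  have h3 := LinearMap.finrank_range_add_finrank_ker L
  rw [hL, finrank_top, finrank_fin_fun] at h3
  rw [hker]
  omega

/-- the frames with a given tail -/
theorem card_tup_succ_of [FiniteDimensional K V] (k N : ℕ)
    (h : ∀ s : Tup F k, Nat.card {w : V // F.Q w = 0 ∧ w ∈ F.perp (Submodule.span K (Set.range s.1)) ∧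
      w ∉ Submodule.span K (Set.range s.1)} = N) : Nat.card (Tup F (k + 1)) = Nat.card (Tup F k) * N := by
  classical
  let _ := Fintype.ofFinite (Tup F k)
  let f : Tup F (k + 1) → Tup F k := fun t => ⟨Fin.tail t.1, by
    have h1 := t.2.1
    rw [← Fin.cons_self_tail t.1, linearIndependent_finCons] at h1
    exact h1.1, fun i => t.2.2.1 _, fun i j => t.2.2.2 _ _⟩
  have h1 : ∀ s : Tup F k, Nat.card {t : Tup F (k + 1) // f t = s} = N := by
    intro s
    rw [← h s]
    refine Nat.card_congr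
      { toFun := fun t => ⟨t.1.1 0, t.1.2.2.1 0, ?_, ?_⟩
        invFun := fun w => ⟨⟨Fin.cons w.1 s.1, ?_, ?_, ?_⟩, ?_⟩
        left_inv := fun t => ?_
        right_inv := fun w => rfl }
    · have h2 : Fin.tail t.1.1 = s.1 := congrArg Subtype.val t.2
      intro w hw
      obtain ⟨g, rfl⟩ := (Submodule.mem_span_range_iff_exists_fun K).1 hw
      rw [CForm.B_sum_right]
      refine Finset.sum_eq_zero fun i _ => ?_
      rw [← h2]
      have : F.B (t.1.1 0) (Fin.tail t.1.1 i) = 0 := t.1.2.2.2 _ _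
      rw [this, mul_zero]
    · have h2 : Fin.tail t.1.1 = s.1 := congrArg Subtype.val t.2
      have h3 := t.1.2.1
      rw [← Fin.cons_self_tail t.1.1, linearIndependent_finCons, h2] at h3
      exact h3.2
    · rw [linearIndependent_finCons]
      exact ⟨s.2.1, w.2.2.2⟩
    · intro i
      refine Fin.cases ?_ (fun i => ?_) i
      · exact w.2.1
      · exact s.2.2.1 i
    · have h4 : ∀ i, F.B w.1 (s.1 i) = 0 := fun i => w.2.2.1 _ (Submodule.subset_span ⟨i, rfl⟩)
      intro i j
      refine Fin.cases ?_ (fun i => ?_) i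
      · refine Fin.cases ?_ (fun j => ?_) j
        · exact F.alt _ w.2.1
        · exact h4 j
      · refine Fin.cases ?_ (fun j => ?_) j
        · exact F.B_eq_zero (h4 i)
        · exact s.2.2.2 i j
    · apply Subtype.ext
      exact Fin.tail_cons (α := fun _ => V) w.1 s.1
    · apply Subtype.ext
      apply Subtype.ext
      have h2 : Fin.tail t.1.1 = s.1 := congrArg Subtype.val t.2
      change (Fin.cons (t.1.1 0) s.1 : Fin (k + 1) → V) = t.1.1
      rw [← h2]
      exact Fin.cons_self_tail t.1.1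
  rw [Nat.card_congr (Equiv.sigmaFiberEquiv f).symm, Nat.card_sigma, Finset.sum_congr rfl fun s _ => h1 s,
    Finset.sum_const, Finset.card_univ, smul_eq_mul, Nat.card_eq_fintype_card (α := Tup F k)]

end general

section sp

variable (K : Type u) [Field K] [Finite K]

theorem card_tup_sp {m k : ℕ} (hk : k ≤ m) : Nat.card (Tup (CForm.spF K m) k) =
    ∏ i ∈ Finset.range k, (Nat.card K ^ (2 * m - i) - Nat.card K ^ i) := by
  classical
  induction k with
  | zero =>
    rw [Finset.prod_range_zero, Nat.card_eq_one_iff_unique]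
    refine ⟨⟨fun a b => Subtype.ext (Subsingleton.elim _ _)⟩, ⟨⟨Fin.elim0, linearIndependent_empty_type, fun i => i.elim0, fun i => i.elim0⟩⟩⟩
  | succ k ih =>
    rw [Finset.prod_range_succ, ← ih (by omega)]
    refine card_tup_succ_of _ k _ fun s => ?_
    have hTS := (CForm.spF K m).TS_span s.2.2.2 s.2.2.1
    have hfr := finrank_perp_span (CForm.spF K m) s.2.1
    have hV : finrank K (Fin m ⊕ Fin m → K) = 2 * m := by
      rw [finrank_fintype_fun_eq_card, Fintype.card_sum, Fintype.card_fin]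
      ring
    rw [hV] at hfr
    have hfs : finrank K (Submodule.span K (Set.range s.1)) = k := by
      rw [finrank_span_eq_card s.2.1, Fintype.card_fin]
    obtain ⟨W, hW⟩ : ∃ W, W = Submodule.span K (Set.range s.1) := ⟨_, rfl⟩
    rw [← hW] at hTS hfr hfs ⊢
    have h1 : Nat.card {w : Fin m ⊕ Fin m → K // (CForm.spF K m).Q w = 0 ∧ w ∈ (CForm.spF K m).perp W ∧ w ∉ W} =
        Nat.card (((CForm.spF K m).perp W : Set (Fin m ⊕ Fin m → K)) \ (W : Set (Fin m ⊕ Fin m → K)) : Set (Fin m ⊕ Fin m → K)) := by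
      refine Nat.card_congr (Equiv.subtypeEquivRight fun w => ?_)
      constructor
      · rintro ⟨-, h2, h3⟩
        exact ⟨h2, h3⟩
      · rintro ⟨h2, h3⟩
        exact ⟨rfl, h2, h3⟩
    rw [h1, Nat.card_coe_set_eq, Set.ncard_sdiff (fun w hw => hTS.le_perp hw)]
    have h2 : ∀ U : Submodule K (Fin m ⊕ Fin m → K), (U : Set (Fin m ⊕ Fin m → K)).ncard = Nat.card K ^ finrank K U := by
      intro U
      rw [← Nat.card_coe_set_eq]
      exact Module.natCard_eq_pow_finrank (K := K) (V := U)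
    rw [h2, h2, hfs]
    congr 2
    omega

theorem card_Om_sp {m k : ℕ} (hk : k ≤ m) : Nat.card ((CForm.spF K m).Om k) *
    ∏ i ∈ Finset.range k, (Nat.card K ^ (i + 1) - 1) = ∏ i ∈ Finset.range k, (Nat.card K ^ (2 * (m - i)) - 1) := by
  have hq : 1 < Nat.card K := Finite.one_lt_card
  have h1 := card_tup (CForm.spF K m) k
  rw [card_tup_sp K hk] at h1
  have h2 : ∏ i ∈ Finset.range k, (Nat.card K ^ k - Nat.card K ^ i) =
      (∏ i ∈ Finset.range k, Nat.card K ^ i) * ∏ i ∈ Finset.range k, (Nat.card K ^ (i + 1) - 1) := by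
    rw [← Finset.prod_range_reflect (fun i => Nat.card K ^ (i + 1) - 1), ← Finset.prod_mul_distrib]
    refine Finset.prod_congr rfl fun i hi => ?_
    rw [Finset.mem_range] at hi
    rw [Nat.mul_sub, mul_one, ← pow_add]
    congr 2
    omega
  have h3 : ∏ i ∈ Finset.range k, (Nat.card K ^ (2 * m - i) - Nat.card K ^ i) =
      (∏ i ∈ Finset.range k, Nat.card K ^ i) * ∏ i ∈ Finset.range k, (Nat.card K ^ (2 * (m - i)) - 1) := by
    rw [← Finset.prod_mul_distrib]
    refine Finset.prod_congr rfl fun i hi => ?_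
    rw [Finset.mem_range] at hi
    rw [Nat.mul_sub, mul_one, ← pow_add]
    congr 2
    omega
  rw [h2, h3] at h1
  have h4 : 0 < ∏ i ∈ Finset.range k, Nat.card K ^ i := Finset.prod_pos fun i _ => by positivity
  apply Nat.eq_of_mul_eq_mul_left h4
  rw [h1]
  ring

/-- **the degree** -/
theorem dg_sp {m k : ℕ} (hk : k ≤ m) (hk0 : 0 < k) : (Nat.card K ^ k - 1) * dg (CForm.spF K m) k =
    ∏ i ∈ Finset.range k, (Nat.card K ^ (2 * (m - i)) - 1) := by
  rw [← card_Om_sp K hk]
  unfold dg
  obtain ⟨j, rfl⟩ : ∃ j, k = j + 1 := ⟨k - 1, by omega⟩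
  rw [Finset.prod_range_succ, Finset.prod_Ico_eq_prod_range, Nat.add_sub_cancel]
  have h1 : ∏ i ∈ Finset.range j, (Nat.card K ^ (1 + i) - 1) = ∏ i ∈ Finset.range j, (Nat.card K ^ (i + 1) - 1) :=
    Finset.prod_congr rfl fun i _ => by rw [add_comm]
  rw [h1]
  ring

theorem dg_pos {m k : ℕ} (hk : k ≤ m) (hk0 : 0 < k) : 0 < dg (CForm.spF K m) k := by
  have hq : 1 < Nat.card K := Finite.one_lt_card
  rcases Nat.eq_zero_or_pos (dg (CForm.spF K m) k) with h | h
  · exfalso
    have h1 := dg_sp K hk hk0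
    rw [h, mul_zero] at h1
    have h2 : 0 < ∏ i ∈ Finset.range k, (Nat.card K ^ (2 * (m - i)) - 1) := by
      refine Finset.prod_pos fun i hi => ?_
      rw [Finset.mem_range] at hi
      have : 1 < Nat.card K ^ (2 * (m - i)) := Nat.one_lt_pow (by omega) hq
      omega
    omega
  · exact h

theorem arith_lt {a b q : ℕ} (hq : 2 ≤ q) (ha : q ≤ a) (hb : q ^ 2 ≤ b) (h : 3 ≤ q ∨ 4 ≤ a ∨ 16 ≤ b) :
    q * a - 1 < (b - 1) * (a - 1) := by
  obtain ⟨a, rfl⟩ : ∃ x, a = x + 1 := ⟨a - 1, by omega⟩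
  have hb4 : 4 ≤ b := by nlinarith
  obtain ⟨b, rfl⟩ : ∃ x, b = x + 1 := ⟨b - 1, by omega⟩
  rw [Nat.add_sub_cancel, Nat.add_sub_cancel]
  have h1 : q * (a + 1) < b * a + 1 := by
    rcases h with h | h | h
    · obtain ⟨t, rfl⟩ : ∃ t, q = t + 3 := ⟨q - 3, by omega⟩
      obtain ⟨s, rfl⟩ : ∃ s, a = s + (t + 2) := ⟨a - (t + 2), by omega⟩
      obtain ⟨r, rfl⟩ : ∃ r, b = r + (t ^ 2 + 6 * t + 8) := ⟨b - (t ^ 2 + 6 * t + 8), by nlinarith [Nat.sub_add_cancel (show t ^ 2 + 6 * t + 8 ≤ b by nlinarith)]⟩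
      ring_nf
      nlinarith [Nat.zero_le (r * s), Nat.zero_le (r * t), Nat.zero_le (s * t), Nat.zero_le (t ^ 2 * s), Nat.zero_le (t ^ 3), Nat.zero_le (t ^ 2)]
    · obtain ⟨t, rfl⟩ : ∃ t, q = t + 2 := ⟨q - 2, by omega⟩
      obtain ⟨s, rfl⟩ : ∃ s, a = s + 3 := ⟨a - 3, by omega⟩
      obtain ⟨r, rfl⟩ : ∃ r, b = r + (t ^ 2 + 4 * t + 3) := ⟨b - (t ^ 2 + 4 * t + 3), by nlinarith [Nat.sub_add_cancel (show t ^ 2 + 4 * t + 3 ≤ b by nlinarith)]⟩
      ring_nf
      nlinarith [Nat.zero_le (r * s), Nat.zero_le (r * t), Nat.zero_le (s * t), Nat.zero_le (t ^ 2 * s), Nat.zero_le (t ^ 3), Nat.zero_le (t ^ 2)]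
    · rcases Nat.lt_or_ge q 3 with h3 | h3
      · obtain rfl : q = 2 := by omega
        nlinarith
      · obtain ⟨t, rfl⟩ : ∃ t, q = t + 3 := ⟨q - 3, by omega⟩
        obtain ⟨s, rfl⟩ : ∃ s, a = s + (t + 2) := ⟨a - (t + 2), by omega⟩
        obtain ⟨r, rfl⟩ : ∃ r, b = r + (t ^ 2 + 6 * t + 8) := ⟨b - (t ^ 2 + 6 * t + 8), by nlinarith [Nat.sub_add_cancel (show t ^ 2 + 6 * t + 8 ≤ b by nlinarith)]⟩
        ring_nf
        nlinarith [Nat.zero_le (r * s), Nat.zero_le (r * t), Nat.zero_le (s * t), Nat.zero_le (t ^ 2 * s), Nat.zero_le (t ^ 3), Nat.zero_le (t ^ 2)]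
  have h2 : 0 < b * a := Nat.mul_pos (by omega) (by omega)
  omega

/-- **strict monotonicity** -/
theorem dg_lt_succ {m k : ℕ} (hk0 : 0 < k) (hk : k + 1 ≤ m) (h : m = 2 → 3 ≤ Nat.card K) :
    dg (CForm.spF K m) k < dg (CForm.spF K m) (k + 1) := by
  have hq : 1 < Nat.card K := Finite.one_lt_card
  obtain ⟨q, hq'⟩ : ∃ q, q = Nat.card K := ⟨_, rfl⟩
  have h1 := dg_sp K (m := m) (k := k) (by omega) hk0
  have h2 := dg_sp K (m := m) (k := k + 1) hk (by omega)
  have h3 := dg_pos K (m := m) (k := k) (by omega) hk0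
  rw [Finset.prod_range_succ, ← h1] at h2
  rw [← hq'] at hq h1 h2 h
  have ha : q ≤ q ^ k := by
    calc q = q ^ 1 := (pow_one q).symm
      _ ≤ q ^ k := Nat.pow_le_pow_right (by omega) hk0
  have hb : q ^ 2 ≤ q ^ (2 * (m - k)) := Nat.pow_le_pow_right (by omega) (by omega)
  have h4 : q * q ^ k - 1 < (q ^ (2 * (m - k)) - 1) * (q ^ k - 1) := by
    refine arith_lt hq ha hb ?_
    rcases Nat.lt_or_ge q 3 with h5 | h5
    · have h6 : q = 2 := by omega
      right
      rcases Nat.lt_or_ge k 2 with h7 | h7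
      · right
        have h8 : m ≠ 2 := fun h8 => by have := h h8; omega
        have : 4 ≤ 2 * (m - k) := by omega
        calc 16 = 2 ^ 4 := by norm_num
          _ ≤ 2 ^ (2 * (m - k)) := Nat.pow_le_pow_right (by norm_num) this
          _ = q ^ (2 * (m - k)) := by rw [h6]
      · left
        calc 4 = 2 ^ 2 := by norm_num
          _ ≤ 2 ^ k := Nat.pow_le_pow_right (by norm_num) h7
          _ = q ^ k := by rw [h6]
    · left; exact h5
  have h5 : 0 < q ^ (k + 1) - 1 := by
    have : 1 < q ^ (k + 1) := Nat.one_lt_pow (by omega) hq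
    omega
  have h6 : q ^ (k + 1) - 1 = q * q ^ k - 1 := by rw [pow_succ, mul_comm]
  by_contra hcon
  push Not at hcon
  have h7 : (q ^ (k + 1) - 1) * dg (CForm.spF K m) (k + 1) ≤ (q ^ (k + 1) - 1) * dg (CForm.spF K m) k :=
    Nat.mul_le_mul_left _ hcon
  rw [h2, h6] at h7
  have h8 : (q * q ^ k - 1) * dg (CForm.spF K m) k < ((q ^ (2 * (m - k)) - 1) * (q ^ k - 1)) * dg (CForm.spF K m) k :=
    Nat.mul_lt_mul_of_pos_right h4 h3
  have h9 : (q ^ k - 1) * dg (CForm.spF K m) k * (q ^ (2 * (m - k)) - 1) =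
      ((q ^ (2 * (m - k)) - 1) * (q ^ k - 1)) * dg (CForm.spF K m) k := by ring
  omega

theorem dg_lt {m k l : ℕ} (hk0 : 0 < k) (hkl : k < l) (hl : l ≤ m) (h : m = 2 → 3 ≤ Nat.card K) :
    dg (CForm.spF K m) k < dg (CForm.spF K m) l := by
  induction l, hkl using Nat.le_induction with
  | base => exact dg_lt_succ K hk0 hl h
  | succ l hkl ih => exact (ih (by omega)).trans (dg_lt_succ K (by omega) hl h)

end sp

end Cfsg.Agent.H362.Dl
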