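import Cfsg.Agent.H680.Dl.Hall
import Cfsg.Agent.S0113
import Cfsg.Agent.S0115
import Cfsg.Agent.SmallSimple.KleinFourAut

/-!
# Groups of order `64` have derived length at most `2` (helper362)

`derived_two_of_card` : `|P| ∣ 64`; `dlLe_two_of_two_pow` : `DlLe 2 2 S` if `2 ^ 7` does not divide `|S|`.
-/

set_option autoImplicit false

open Cfsg

namespace Cfsg.Agent.H362.Dl

open Cfsg.Agent.H246.Dl
open scoped commutatorElement

theorem commutator_le_of_isCoatom {U : Type*} [Group U] [Finite U] (hnil : Group.IsNilpotent U)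
    {M : Subgroup U} (hM : IsCoatom M) : commutator U ≤ M := by
  have hn : M.Normal :=
    Subgroup.NormalizerCondition.normal_of_coatom M
      (Group.normalizerCondition_of_isNilpotent (G := U)) hM
  by_contra hle
  have h1 : commutator U ⊔ M = ⊤ := by
    apply hM.2
    exact lt_of_le_of_ne le_sup_right (fun h => hle (by rw [h]; exact le_sup_left))
  have hmap : (commutator U).map (QuotientGroup.mk' M) = ⊤ := by
    have h2 : (commutator U ⊔ M).map (QuotientGroup.mk' M) = ⊤ := by
      rw [h1]; exact Subgroup.map_top_of_surjective _ (QuotientGroup.mk'_surjective M)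
    rw [Subgroup.map_sup, QuotientGroup.map_mk'_self, sup_bot_eq] at h2
    exact h2
  have hc : commutator (U ⧸ M) = ⊤ := by
    rw [← top_le_iff, ← hmap, commutator_def, Subgroup.map_commutator]
    exact Subgroup.commutator_mono le_top le_top
  have hnt : Nontrivial (U ⧸ M) := QuotientGroup.nontrivial_iff.mpr hM.1
  have hs : Group.IsSolvable (U ⧸ M) := inferInstance
  exact (Group.IsSolvable.commutator_lt_top_of_nontrivial (G := U ⧸ M)).ne hc

/-- A finite nilpotent group with cyclic abelianization is cyclic. -/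
theorem isCyclic_of_abelianization {U : Type*} [Group U] [Finite U] (hnil : Group.IsNilpotent U)
    (hc : IsCyclic (U ⧸ commutator U)) : IsCyclic U := by
  obtain ⟨v, hv⟩ := hc.exists_generator
  obtain ⟨g, rfl⟩ := QuotientGroup.mk_surjective v
  refine ⟨g, fun x => ?_⟩
  show x ∈ Subgroup.zpowers g
  by_contra hx
  have hne : Subgroup.zpowers g ≠ ⊤ := fun h => hx (h ▸ Subgroup.mem_top x)
  rcases eq_top_or_exists_le_coatom (Subgroup.zpowers g) with h1 | ⟨M, hM, hgM⟩
  · exact hne h1
  · apply hM.1
    rw [eq_top_iff]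
    intro y _
    obtain ⟨k, hk⟩ := Subgroup.mem_zpowers_iff.1 (hv (QuotientGroup.mk y))
    have h2 : (QuotientGroup.mk (g ^ k) : U ⧸ commutator U) = QuotientGroup.mk y := hk
    rw [QuotientGroup.eq] at h2
    have h3 := commutator_le_of_isCoatom hnil hM h2
    have h4 : g ^ k ∈ M := zpow_mem (hgM (Subgroup.mem_zpowers g)) k
    have : y = g ^ k * ((g ^ k)⁻¹ * y) := by group
    rw [this]
    exact mul_mem h4 h3

theorem derived_two_of_card {P : Type*} [Group P] [Finite P] {n : ℕ} (hn : Nat.card P = 2 ^ n) (hn6 : n ≤ 6) :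
    derivedSeries P 2 = ⊥ := by
  have hf : Fact (Nat.Prime 2) := ⟨Nat.prime_two⟩
  have hP : IsPGroup 2 P := IsPGroup.iff_card.2 ⟨n, hn⟩
  have hnil : Group.IsNilpotent P := hP.isNilpotent
  by_contra hne
  have h6 : n = 6 := by
    have h1 := H680.Dl.hall_series hP hne
    rw [hn] at h1
    have := (Nat.pow_le_pow_iff_right (by norm_num)).1 h1
    omega
  subst h6
  have hD1 : derivedSeries P 1 ≠ ⊥ := by
    intro h
    apply hne
    rw [eq_bot_iff, ← h]
    exact derivedSeries_antitone P (by norm_num)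
  have hb0 := S4009.hall_bound hP (derivedSeries_normal P 0) (S4009.derived_le_gam 0)
    (by rw [← derivedSeries_succ]; exact hD1)
  have hb1 := S4009.hall_bound hP (derivedSeries_normal P 1) (S4009.derived_le_gam 1)
    (by rw [← derivedSeries_succ]; exact hne)
  rw [← derivedSeries_succ] at hb0 hb1
  have hc0 : Nat.card (derivedSeries P 0) = 64 := by
    rw [derivedSeries_zero, Subgroup.card_top, hn]
    norm_num
  rw [hc0] at hb0
  have hD2 : 1 < Nat.card (derivedSeries P 2) := by
    rw [Subgroup.one_lt_card_iff_ne_bot]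
    exact hne
  have e0 : 2 ^ (2 ^ 0 - 1 + 2) = 4 := by norm_num
  have e1 : 2 ^ (2 ^ 1 - 1 + 2) = 8 := by norm_num
  rw [e0] at hb0
  rw [e1] at hb1
  have f0 : Nat.card (derivedSeries P (0 + 1)) = Nat.card (derivedSeries P 1) := rfl
  have f1 : Nat.card (derivedSeries P (1 + 1)) = Nat.card (derivedSeries P 2) := rfl
  rw [f0] at hb0
  rw [f1] at hb1
  have h16 : Nat.card (derivedSeries P 1) = 16 := by omega
  have hcomm : derivedSeries P 1 = commutator P := derivedSeries_one P
  rw [hcomm] at h16
  have hq : Nat.card (P ⧸ commutator P) = 4 := by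
    have h1 := Subgroup.card_eq_card_quotient_mul_card_subgroup (commutator P)
    rw [hn, h16] at h1
    omega
  have hnc : ¬ IsCyclic (P ⧸ commutator P) := by
    intro h
    have h1 := isCyclic_of_abelianization hnil h
    apply hD1
    rw [hcomm, commutator_def, eq_bot_iff]
    exact Subgroup.commutator_le.2 fun a _ b _ => by
      rw [Subgroup.mem_bot, commutatorElement_eq_one_iff_mul_comm]
      exact (IsCyclic.commGroup (α := P)).mul_comm a b
  have hK : IsKleinFour (P ⧸ commutator P) := SmallSimple.KleinFourAut.isKleinFour_of_not_isCyclic hq hnc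
  have hcl := (S0115.result 6 (by norm_num) hn).2 hK
  obtain ⟨C, hC, hCi⟩ := S0113.result 6 (by norm_num) hn hcl
  have hCn : C.Normal := Subgroup.normal_of_index_eq_two hCi
  have hle : commutator P ≤ C := by
    have h2 : Nat.card (P ⧸ C) = 2 := hCi
    have h3 : IsCyclic (P ⧸ C) := isCyclic_of_prime_card h2
    rw [commutator_def, Subgroup.commutator_le]
    intro a _ b _
    rw [← QuotientGroup.eq_one_iff]
    have h4 : ((⁅a, b⁆ : P) : P ⧸ C) = ⁅(a : P ⧸ C), (b : P ⧸ C)⁆ := rfl
    rw [h4, commutatorElement_eq_one_iff_mul_comm]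
    exact (IsCyclic.commGroup (α := P ⧸ C)).mul_comm _ _
  apply hne
  rw [derivedSeries_succ, hcomm, eq_bot_iff]
  refine Subgroup.commutator_le.2 fun a ha b hb => ?_
  rw [Subgroup.mem_bot, commutatorElement_eq_one_iff_mul_comm]
  have h5 := (IsCyclic.commGroup (α := C)).mul_comm ⟨a, hle ha⟩ ⟨b, hle hb⟩
  exact congrArg Subtype.val h5

/-- **Sylow `2`-subgroups of order at most `64`** -/
theorem dlLe_two_of_two_pow {S : Type*} [Group S] [Finite S] (h : ¬ 2 ^ 7 ∣ Nat.card S) : DlLe 2 2 S := by
  intro P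
  obtain ⟨n, hn⟩ := IsPGroup.iff_card.1 P.isPGroup'
  refine derived_two_of_card hn ?_
  by_contra hlt
  apply h
  have h3 : 2 ^ n ∣ Nat.card S := hn ▸ Subgroup.card_subgroup_dvd_card _
  exact (pow_dvd_pow 2 (by omega)).trans h3

end Cfsg.Agent.H362.Dl
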