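import Cfsg.Agent.H362.Dl.SpCount
import Cfsg.Agent.H246.Dl.Defs
import Cfsg.Agent.H677.DG.SpRank

/-!
# Characters of `PSp_{2m}(q)` of degree divisible by `r` (helper362)

`exists_char_dg` : characters of degree `dg`; `exists_rank3` : a character of even degree divisible by `p` (`q` odd);
`many_odd`, `many_two` : `Many r (PSp m K) L`.
-/

set_option autoImplicit false
set_option linter.unusedSectionVars false

open Cfsg

namespace Cfsg.Agent.H362.Dl

open Cfsg.Agent.H477.HC Module Cfsg.Agent.H53.HC Cfsg.Agent.H246.Dl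

universe u v

variable (K : Type u) [Field K] [Finite K]

theorem exists_char_dg {m k : ℕ} (hk0 : 0 < k) (hk : k ≤ m) (h2 : Nat.card K = 2 → 3 ≤ k) (h3 : Nat.card K = 3 → 3 ≤ k)
    (h5 : Nat.card K = 5 → 2 ≤ k) :
    ∃ χ : PSp m K → ℂ, IsIrrCharacter _ χ ∧ χ 1 = (dg (CForm.spF K m) k : ℂ) := by
  obtain ⟨c, hc⟩ := exists_cus_sq K rfl k hk0 h2 h3 h5
  obtain ⟨n, rfl⟩ := Nat.exists_eq_add_of_le hk
  exact psp_char (n := n) hc (one_pow 2) (neg_one_sq)

theorem dvd_dg {m k e r : ℕ} (he0 : 0 < e) (hek : e < k) (he : r ∣ Nat.card K ^ e - 1) :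
    r ∣ dg (CForm.spF K m) k := by
  unfold dg
  exact Dvd.dvd.mul_left (he.trans (Finset.dvd_prod_of_mem (fun i => Nat.card K ^ i - 1) (Finset.mem_Ico.2 ⟨he0, hek⟩))) _

theorem dg_injOn {m : ℕ} (h : m = 2 → 3 ≤ Nat.card K) : Set.InjOn (fun k => dg (CForm.spF K m) k) (Finset.Ico 1 (m + 1)) := by
  intro a ha b hb hab
  rw [Finset.coe_Ico, Set.mem_Ico] at ha hb
  rcases Nat.lt_trichotomy a b with h1 | h1 | h1
  · exact absurd hab (dg_lt K (by omega) h1 (by omega) h).ne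
  · exact h1
  · exact absurd hab (dg_lt K (by omega) h1 (by omega) h).ne'

/-- the general case -/
theorem many_gen {m L e r a : ℕ} (h : m = 2 → 3 ≤ Nat.card K) (he0 : 0 < e) (he : r ∣ Nat.card K ^ e - 1)
    (hea : e < a) (h2 : Nat.card K = 2 → 3 ≤ a) (h3 : Nat.card K = 3 → 3 ≤ a) (h5 : Nat.card K = 5 → 2 ≤ a)
    (hL : L + a ≤ m + 1) : Many r (PSp m K) L := by
  classical
  have hcard : ((Finset.Ico a (m + 1)).image (fun k => dg (CForm.spF K m) k)).card = m + 1 - a := by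
    rw [Finset.card_image_of_injOn, Nat.card_Ico]
    refine (dg_injOn K h).mono ?_
    intro x hx
    rw [Finset.coe_Ico, Set.mem_Ico] at hx ⊢
    omega
  refine (Many.of_finset (D := (Finset.Ico a (m + 1)).image (fun k => dg (CForm.spF K m) k)) ?_).mono (by rw [hcard]; omega)
  intro d hd
  obtain ⟨k, hk, rfl⟩ := Finset.mem_image.1 hd
  rw [Finset.mem_Ico] at hk
  exact ⟨dvd_dg K he0 (by omega) he, exists_char_dg K (by omega) (by omega) (fun h => by have := h2 h; omega)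
    (fun h => by have := h3 h; omega) (fun h => by have := h5 h; omega)⟩

/-- `r` odd -/
theorem many_odd {m L e r : ℕ} (he0 : 0 < e) (he : r ∣ Nat.card K ^ e - 1) (hL3 : 3 ≤ L)
    (hL : 3 ^ (L - 1) * e ≤ 2 * m) : Many r (PSp m K) L := by
  obtain ⟨l, rfl⟩ : ∃ l, L = l + 3 := ⟨L - 3, by omega⟩
  have h1 : 9 + 2 * l ≤ 3 ^ (l + 3 - 1) := by
    have h2 : l + 3 - 1 = l + 2 := by omega
    rw [h2]
    clear h2 hL hL3
    induction l with
    | zero => norm_num
    | succ l ih =>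
      rw [show l + 1 + 2 = l + 2 + 1 from by ring, pow_succ]
      omega
  have h2 : (9 + 2 * l) * e ≤ 2 * m := (Nat.mul_le_mul_right e h1).trans hL
  have h3 : l + 3 + (max 2 e + 1) ≤ m + 1 := by
    have h4 : 9 * e + 2 * l ≤ (9 + 2 * l) * e := by nlinarith
    rcases le_total 2 e with h | h
    · rw [max_eq_right h]; omega
    · rw [max_eq_left h]; omega
  exact many_gen K (by omega) he0 he (a := max 2 e + 1) (by omega) (by omega) (by omega) (by omega) h3

section two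

variable {p : ℕ} [Fact p.Prime] [CharP K p]

theorem not_dvd_dg {m k : ℕ} (hk : k ≤ m) (hk0 : 0 < k) : ¬ p ∣ dg (CForm.spF K m) k := by
  intro h
  have hp : p.Prime := Fact.out
  obtain ⟨s, hs⟩ := card_pow K p
  have hq : 1 < Nat.card K := Finite.one_lt_card
  have h1 := dg_sp K hk hk0
  have h2 : p ∣ ∏ i ∈ Finset.range k, (Nat.card K ^ (2 * (m - i)) - 1) := h1 ▸ Dvd.dvd.mul_left h _
  obtain ⟨i, hi, hi'⟩ := (Prime.dvd_finsetProd_iff hp.prime _).1 h2
  rw [Finset.mem_range] at hi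
  have hs0 : s ≠ 0 := by
    rintro rfl
    rw [pow_zero] at hs
    omega
  have h3 : p ∣ Nat.card K ^ (2 * (m - i)) := by
    rw [hs, ← pow_mul]
    exact dvd_pow_self p (Nat.mul_ne_zero hs0 (by omega))
  have h4 : 1 ≤ Nat.card K ^ (2 * (m - i)) := Nat.one_le_pow _ _ (by omega)
  have h5 := (Nat.dvd_sub h3 hi')
  rw [Nat.sub_sub_self h4] at h5
  exact hp.one_lt.ne' (Nat.dvd_one.1 h5)

/-- **the rank 3 character of even degree** -/
theorem exists_rank3 (hp2 : p ≠ 2) {m : ℕ} (hm : 2 ≤ m) : ∃ (χ : PSp m K → ℂ) (f : ℕ), IsIrrCharacter _ χ ∧ χ 1 = f ∧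
    2 ∣ f ∧ p ∣ f ∧ (m = 4 → Nat.card K = 3 → f = 1680) ∧ (m = 3 → Nat.card K = 3 → f = 168) := by
  have hp : p.Prime := Fact.out
  obtain ⟨s, hs⟩ := card_pow K p
  have hq : 1 < Nat.card K := Finite.one_lt_card
  have hs0 : s ≠ 0 := by
    rintro rfl
    rw [pow_zero] at hs
    omega
  have hpq : p ∣ Nat.card K := by rw [hs]; exact dvd_pow_self p hs0
  have hpodd : Odd p := hp.odd_of_ne_two hp2
  have hodd : Odd (Nat.card K) := by rw [hs]; exact hpodd.pow
  obtain ⟨c, hc⟩ := hodd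
  obtain ⟨q, hq'⟩ : ∃ q, q = Nat.card K := ⟨_, rfl⟩
  rw [← hq'] at hpq hc hq
  have hcq : 1 ≤ c := by omega
  -- `p` is prime to `2 (q - 1)`
  have hcop : ∀ f : ℕ, ∀ y : ℤ, 2 * ((q : ℤ) - 1) * f = q * y → p ∣ f := by
    intro f y h
    have h1 : (p : ℤ) ∣ (2 * ((q : ℤ) - 1)) * f := by
      rw [h]
      exact Dvd.dvd.mul_right (Int.natCast_dvd_natCast.2 hpq) _
    have hpi : Prime (p : ℤ) := Nat.prime_iff_prime_int.1 hp
    rcases hpi.dvd_or_dvd h1 with h2 | h2
    · exfalso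
      rcases hpi.dvd_or_dvd h2 with h3 | h3
      · have h4 : p ∣ 2 := by exact_mod_cast h3
        exact hp2 ((Nat.prime_dvd_prime_iff_eq hp Nat.prime_two).1 h4)
      · have h4 : (p : ℤ) ∣ (q : ℤ) := Int.natCast_dvd_natCast.2 hpq
        have h5 : (p : ℤ) ∣ 1 := by
          have := dvd_sub h4 h3
          rwa [sub_sub_cancel] at this
        exact hpi.not_dvd_one h5
    · exact Int.natCast_dvd_natCast.1 h2
  -- `4 c (c + 1) ∣ q^(2 i) - 1`
  have hA : ∀ i : ℕ, ∃ A : ℤ, (q : ℤ) ^ (2 * i) - 1 = ((q : ℤ) ^ 2 - 1) * A := by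
    intro i
    rw [pow_mul]
    obtain ⟨A, hA⟩ := sub_one_dvd_pow_sub_one ((q : ℤ) ^ 2) i
    exact ⟨A, hA⟩
  have hB : ∀ i : ℕ, ∃ B : ℤ, (q : ℤ) ^ i + 1 = 2 * B := by
    intro i
    have h1 : Odd ((q : ℤ) ^ i) := by
      apply Odd.pow
      exact ⟨c, by rw [hc]; push_cast; ring⟩
    obtain ⟨B, hB⟩ := h1
    exact ⟨B + 1, by rw [hB]; ring⟩
  have hqz : (q : ℤ) = 2 * c + 1 := by rw [hc]; push_cast; ring
  have hq1 : (2 * ((q : ℤ) - 1)) ≠ 0 := by
    have : (1 : ℤ) < q := by exact_mod_cast hq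
    intro h
    omega
  let _ := Fintype.ofFinite K
  obtain ⟨χ₁, χ₂, f, g, hχ₁, hχ₂, hf, hg, hf', hg'⟩ := Cfsg.Agent.H677.SpRank.exists_chars (F := K) hm
  rw [← hq'] at hf' hg' ⊢
  rcases Nat.even_or_odd m with hme | hmo
  · -- `m` even
    obtain ⟨i, hi⟩ := hme
    obtain ⟨A, hA⟩ := hA i
    obtain ⟨B, hB⟩ := hB (m - 1)
    refine ⟨χ₁, f, hχ₁, hf, ?_, hcop f (((q : ℤ) ^ m - 1) * ((q : ℤ) ^ (m - 1) + 1)) (by rw [hf']; ring), ?_, ?_⟩
    · have h1 : (2 * ((q : ℤ) - 1)) * f = (2 * ((q : ℤ) - 1)) * (2 * ((c + 1) * q * A * B)) := by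
        rw [hf', hB, show m = 2 * i from by omega, hA, hqz]
        ring
      have h2 := mul_left_cancel₀ hq1 h1
      have h3 : (2 : ℤ) ∣ (f : ℤ) := ⟨_, h2⟩
      exact_mod_cast h3
    · rintro rfl h3
      rw [h3] at hf'
      norm_num at hf'
      omega
    · rintro rfl
      omega
  · -- `m` odd
    obtain ⟨i, hi⟩ := hmo
    obtain ⟨A, hA⟩ := hA i
    obtain ⟨B, hB⟩ := hB m
    refine ⟨χ₂, g, hχ₂, hg, ?_, hcop g (((q : ℤ) ^ m + 1) * ((q : ℤ) ^ (m - 1) - 1)) (by rw [hg']; ring), ?_, ?_⟩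
    · have h1 : (2 * ((q : ℤ) - 1)) * g = (2 * ((q : ℤ) - 1)) * (2 * ((c + 1) * q * A * B)) := by
        rw [hg', hB, show m - 1 = 2 * i from by omega, hA, hqz]
        ring
      have h2 := mul_left_cancel₀ hq1 h1
      have h3 : (2 : ℤ) ∣ (g : ℤ) := ⟨_, h2⟩
      exact_mod_cast h3
    · rintro rfl
      omega
    · rintro rfl h3
      rw [h3] at hg'
      norm_num at hg'
      omega

theorem two_dvd_dg (hp2 : p ≠ 2) {m k : ℕ} (hk0 : 0 < k) (hkm : k ≤ m) : 2 ∣ dg (CForm.spF K m) k := by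
  have hp : p.Prime := Fact.out
  obtain ⟨s, hs⟩ := card_pow K p
  have hq : 1 < Nat.card K := Finite.one_lt_card
  have hodd : Odd (Nat.card K) := by rw [hs]; exact (hp.odd_of_ne_two hp2).pow
  rcases Nat.lt_or_ge 1 k with h | h
  · refine dvd_dg K (e := 1) one_pos h ?_
    rw [pow_one]
    obtain ⟨c, hc⟩ := hodd
    exact ⟨c, by omega⟩
  · obtain rfl : k = 1 := by omega
    have h1 := dg_sp K hkm hk0
    rw [pow_one, Finset.prod_range_one, Nat.sub_zero] at h1
    obtain ⟨c, hc⟩ := hodd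
    have h2 : Nat.card K ^ 2 - 1 ∣ Nat.card K ^ (2 * m) - 1 := by
      rw [pow_mul]
      simpa using Nat.sub_dvd_pow_sub_pow (Nat.card K ^ 2) 1 m
    obtain ⟨A, hA⟩ := h2
    have h3 : Nat.card K ^ 2 - 1 = (Nat.card K - 1) * (2 * (c + 1)) := by
      rw [hc, Nat.add_sub_cancel]
      have : (2 * c + 1) ^ 2 = 2 * c * (2 * (c + 1)) + 1 := by ring
      rw [this, Nat.add_sub_cancel]
    rw [hA, h3] at h1
    have h4 : dg (CForm.spF K m) 1 = 2 * (c + 1) * A := by
      apply Nat.eq_of_mul_eq_mul_left (show 0 < Nat.card K - 1 by omega)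
      rw [h1]
      ring
    exact ⟨(c + 1) * A, by rw [h4]; ring⟩

/-- the general case, `r = 2` -/
theorem many_two_gen (hp2 : p ≠ 2) {m L a : ℕ} (hm : 2 ≤ m) (ha0 : 0 < a)
    (h3 : Nat.card K = 3 → 3 ≤ a) (h5 : Nat.card K = 5 → 2 ≤ a) (hL : L + a ≤ m + 2) (ham : a ≤ m + 1) :
    Many 2 (PSp m K) L := by
  classical
  have hp : p.Prime := Fact.out
  obtain ⟨s, hs⟩ := card_pow K p
  have hq : 1 < Nat.card K := Finite.one_lt_card
  have hodd : Odd (Nat.card K) := by rw [hs]; exact (hp.odd_of_ne_two hp2).pow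
  have hq3 : 3 ≤ Nat.card K := by
    obtain ⟨c, hc⟩ := hodd
    omega
  obtain ⟨χ, f, hχ, hf, hf2, hfp, -⟩ := exists_rank3 K hp2 hm
  have hfn : f ∉ (Finset.Ico a (m + 1)).image (fun k => dg (CForm.spF K m) k) := by
    intro h
    obtain ⟨k, hk, rfl⟩ := Finset.mem_image.1 h
    rw [Finset.mem_Ico] at hk
    exact not_dvd_dg K (by omega) (by omega) hfp
  have hcard : (insert f ((Finset.Ico a (m + 1)).image (fun k => dg (CForm.spF K m) k))).card = m + 1 - a + 1 := by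
    rw [Finset.card_insert_of_notMem hfn, Finset.card_image_of_injOn, Nat.card_Ico]
    refine (dg_injOn K (fun _ => hq3)).mono ?_
    intro x hx
    rw [Finset.coe_Ico, Set.mem_Ico] at hx ⊢
    omega
  refine (Many.of_finset (D := insert f ((Finset.Ico a (m + 1)).image (fun k => dg (CForm.spF K m) k))) ?_).mono
    (by rw [hcard]; omega)
  intro d hd
  rcases Finset.mem_insert.1 hd with rfl | hd
  · exact ⟨hf2, χ, hχ, hf⟩
  · obtain ⟨k, hk, rfl⟩ := Finset.mem_image.1 hd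
    rw [Finset.mem_Ico] at hk
    exact ⟨two_dvd_dg K hp2 (by omega) (by omega), exists_char_dg K (by omega) (by omega) (fun h => by omega)
      (fun h => by have := h3 h; omega) (fun h => by have := h5 h; omega)⟩

theorem log_le {m c : ℕ} (h : 2 * m < 2 ^ c) (hc : 0 < c) : Nat.log 2 (2 * m) + 1 ≤ c := by
  rcases Nat.eq_zero_or_pos m with rfl | hm
  · simp
    omega
  · have := (Nat.log_lt_iff_lt_pow (by norm_num) (by omega : 2 * m ≠ 0)).2 h
    omega

/-- **`r = 2`** -/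
theorem many_two (hp2 : p ≠ 2) {m : ℕ} (hm : 2 ≤ m) (h3 : Nat.card K = 3 → 5 ≤ m) (h5 : Nat.card K = 5 → 3 ≤ m) :
    Many 2 (PSp m K) (Nat.log 2 (2 * m) + 1) := by
  by_cases hq3 : Nat.card K = 3
  · have h6 := h3 hq3
    refine many_two_gen K hp2 hm (a := 3) (by norm_num) (fun _ => le_rfl) (fun h => by omega) ?_ (by omega)
    have : Nat.log 2 (2 * m) + 1 ≤ m - 1 := by
      refine log_le ?_ (by omega)
      obtain ⟨j, rfl⟩ : ∃ j, m = j + 5 := ⟨m - 5, by omega⟩
      rw [show j + 5 - 1 = j + 4 from by omega]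
      clear h3 h5 h6 hm
      induction j with
      | zero => norm_num
      | succ j ih => rw [show j + 1 + 4 = j + 4 + 1 from by ring, pow_succ]; omega
    omega
  · by_cases hq5 : Nat.card K = 5
    · have h6 := h5 hq5
      refine many_two_gen K hp2 hm (a := 2) (by norm_num) (fun h => by omega) (fun _ => le_rfl) ?_ (by omega)
      have : Nat.log 2 (2 * m) + 1 ≤ m := by
        refine log_le ?_ (by omega)
        obtain ⟨j, rfl⟩ : ∃ j, m = j + 3 := ⟨m - 3, by omega⟩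
        clear h3 h5 h6 hm
        induction j with
        | zero => norm_num
        | succ j ih => rw [show j + 1 + 3 = j + 3 + 1 from by ring, pow_succ]; omega
      omega
    · refine many_two_gen K hp2 hm (a := 1) (by norm_num) (fun h => absurd h hq3) (fun h => absurd h hq5) ?_ (by omega)
      have : Nat.log 2 (2 * m) + 1 ≤ m + 1 := by
        refine log_le ?_ (by omega)
        obtain ⟨j, rfl⟩ : ∃ j, m = j + 2 := ⟨m - 2, by omega⟩
        clear h3 h5 hm
        induction j with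
        | zero => norm_num
        | succ j ih =>
          have : 2 ^ (j + 1 + 2 + 1) = 2 ^ (j + 2 + 1) * 2 := by ring
          omega
      omega

end two

end Cfsg.Agent.H362.Dl
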