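import Cfsg.Agent.H362.Dl.SpMany
import Cfsg.Agent.H749.TwoStab
import Cfsg.Agent.H477.HC.Frames
import Cfsg.Agent.Characters.Linear
import Cfsg.Agent.S0244

/-!
# `PSp_6(3)` and `PSp_8(3)` (helper362)

`psp_char_hc` : for `n < k`, `c` cuspidal on `GL_k(K)`, `ψ₀` irreducible on `Sp_{2n}(K)` with opposite values at `-1`, an
irreducible character of `PSp_{2(k+n)}(K)` of degree `dg * ψ₀(1)`; `many_six_three`, `many_eight_three`.
-/

set_option autoImplicit false
set_option linter.unusedSectionVars false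

open Cfsg

namespace Cfsg.Agent.H362.Dl

open Cfsg.Agent.H477.HC Module Cfsg.Agent.H53.HC Cfsg.Agent.H246.Dl Cfsg.Agent.Characters

universe u v

/-- irreducible characters separate the elements -/
theorem exists_irr_sep {Q : Type u} [Group Q] [Finite Q] {g : Q} (hg : g ≠ 1) :
    ∃ μ : Q → ℂ, IsIrrCharacter Q μ ∧ μ g ≠ μ 1 := by
  classical
  have := Fintype.ofFinite Q
  have := Core.finite_irr (G := Q)
  have := Fintype.ofFinite (IrrCharacter Q)
  by_contra hcon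
  push Not at hcon
  have hf : IsClassFunction Q (fun x : Q => if x = 1 then (1 : ℂ) else 0) := by
    intro x y
    simp
  have h1 := Core.classFunction_eq_sum hf
  have h3 : (fun x : Q => if x = 1 then (1 : ℂ) else 0) g = (fun x : Q => if x = 1 then (1 : ℂ) else 0) 1 := by
    rw [h1, Finset.sum_apply, Finset.sum_apply]
    refine Finset.sum_congr rfl fun χ _ => ?_
    rw [Pi.smul_apply, Pi.smul_apply, hcon χ χ.2]
  change (if g = 1 then (1 : ℂ) else 0) = if (1 : Q) = 1 then (1 : ℂ) else 0 at h3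
  rw [if_pos rfl, if_neg hg] at h3
  exact zero_ne_one h3

/-- an element `z` with `z ^ 2 = 1` in the centre acts as `±1` -/
theorem central_pm {Q : Type u} [Group Q] [Finite Q] {μ : Q → ℂ} (hμ : IsIrrCharacter Q μ) {z : Q}
    (hz : z ∈ Subgroup.center Q) (hz2 : z * z = 1) : μ z = μ 1 ∨ μ z = -μ 1 := by
  obtain ⟨l, hl⟩ := central_mul hμ hz
  have h1 := hl 1
  have h2 := hl z
  rw [hz2] at h2
  rw [one_mul] at h1
  have h3 : μ 1 ≠ 0 := Core.isIrr_apply_one_ne_zero hμ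
  have h4 : (l * l - 1) * μ 1 = 0 := by
    rw [sub_mul, one_mul, mul_assoc, ← h1, ← h2, sub_self]
  have h5 : (l - 1) * (l + 1) = 0 := by
    rcases mul_eq_zero.1 h4 with h | h
    · rw [← h]; ring
    · exact absurd h h3
  rcases mul_eq_zero.1 h5 with h | h
  · left
    rw [h1, sub_eq_zero.1 h, one_mul]
  · right
    rw [h1, eq_neg_of_add_eq_zero_left h, neg_one_mul]

section

variable {K : Type u} [Field K] [Finite K] {V : Type v} [AddCommGroup V] [Module K V] [Finite V] (F : CForm K V)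

theorem finrank_perp [FiniteDimensional K V] (W : Submodule K V) :
    finrank K (F.perp W) + finrank K W = finrank K V := by
  classical
  let b := Module.finBasis K W
  have hli : LinearIndependent K (fun i => (b i : V)) := b.linearIndependent.map' W.subtype (Submodule.ker_subtype _)
  have hsp : Submodule.span K (Set.range fun i => (b i : V)) = W := by
    have h1 : (Set.range fun i => (b i : V)) = W.subtype '' Set.range b := by
      rw [← Set.range_comp]
      rfl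
    rw [h1, ← Submodule.map_span, b.span_eq, Submodule.map_top, Submodule.range_subtype]
  have := finrank_perp_span F hli
  rw [hsp] at this
  exact this

/-- totally singular subspaces which are orthogonal and disjoint -/
theorem no_orth [FiniteDimensional K V] {k : ℕ} (hk : finrank K V < 4 * k) {W W' : Submodule K V} (hW : W ∈ F.Om k)
    (hW' : W' ∈ F.Om k) (h : W ≤ F.perp W') (h0 : W ⊓ W' = ⊥) : False := by
  have h1 : W ⊔ W' ≤ F.perp (W ⊔ W') := by
    intro x hx y hy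
    obtain ⟨a, ha, b, hb, rfl⟩ := Submodule.mem_sup.1 hx
    obtain ⟨c, hc, d, hd, rfl⟩ := Submodule.mem_sup.1 hy
    rw [F.B_add_left, F.B_add_right, F.B_add_right, hW.1.2 a ha c hc, h ha d hd, F.B_eq_zero (h hc b hb),
      hW'.1.2 b hb d hd]
    ring
  have h2 := finrank_perp F (W ⊔ W')
  have h3 := Submodule.finrank_mono h1
  have h4 := Submodule.finrank_sup_add_finrank_inf_eq W W'
  rw [h0, finrank_bot, hW.2, hW'.2] at h4
  omega

end

section sp

variable (K : Type u) [Field K] [Finite K]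

theorem exists_cmp {k n m : ℕ} (hm : k + n = m) : ∃ (W₀ : Submodule K (Fin m ⊕ Fin m → K))
    (j : (Fin n ⊕ Fin n → K) →ₗ[K] (Fin m ⊕ Fin m → K)),
    W₀ ∈ (CForm.spF K m).Om k ∧ H749.Two.Cmp (CForm.spF K m) (CForm.spF K n) j W₀ := by
  classical
  obtain ⟨e, f, j, h⟩ := CForm.frm_sp (K := K) hm
  refine ⟨Submodule.span K (Set.range e), j, (CForm.spF K m).frame_mem_Om h.hee h.hef h.hQe, ⟨rfl, ?_, h.hjB, h.hjQ, ?_, ?_⟩⟩
  · exact ((CForm.spF K m).frame_mem_Om h.hee h.hef h.hQe).1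
  · intro x w hw
    obtain ⟨g, rfl⟩ := (Submodule.mem_span_range_iff_exists_fun K).1 hw
    rw [CForm.B_sum_right]
    exact Finset.sum_eq_zero fun i _ => by rw [h.hje, mul_zero]
  · intro v hv
    have hw : ∑ i, (CForm.spF K m).B v (f i) • e i ∈ Submodule.span K (Set.range e) :=
      (Submodule.mem_span_range_iff_exists_fun K).2 ⟨_, rfl⟩
    obtain ⟨x, hx⟩ := (CForm.spF K m).frame_decomp (CForm.spF K n) j h.hee h.hff h.hef h.hjB h.hje h.hjf h.hdim
      (v - ∑ i, (CForm.spF K m).B v (f i) • e i)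
      (fun i => by
        rw [CForm.B_sub_left, hv _ (Submodule.subset_span ⟨i, rfl⟩), CForm.B_sum_left,
          Finset.sum_eq_zero (fun l _ => by rw [h.hee, mul_zero]), sub_zero])
      (fun i => by
        rw [CForm.B_sub_left, CForm.B_sum_left, Finset.sum_eq_single i]
        · rw [h.hef, if_pos rfl, mul_one, sub_self]
        · intro l _ hl
          rw [h.hef, if_neg hl, mul_zero]
        · intro h; exact absurd (Finset.mem_univ _) h)
    exact ⟨_, hw, x, by rw [← hx]; abel⟩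

/-- **`c ⊗ ψ₀`** -/
theorem psp_char_hc {k n : ℕ} (hnk : n < k) {Z : Kˣ → Prop} {c : GL (Fin k) K → ℂ}
    (hc : Cus K k (RingHom.id K) Z c) {ψ₀ : (CForm.spF K n).iso → ℂ} (hψ : IsIrrCharacter _ ψ₀)
    (hz : ∀ z' : (CForm.spF K n).iso, (∀ x, (z' : (Fin n ⊕ Fin n → K) ≃ₗ[K] (Fin n ⊕ Fin n → K)) x = ((-1 : Kˣ) : K) • x) →
      c (Matrix.GeneralLinearGroup.scalar (Fin k) (-1)) * ψ₀ z' = c 1 * ψ₀ 1) :
    ∃ χ : PSp (k + n) K → ℂ, IsIrrCharacter _ χ ∧ χ 1 = (dg (CForm.spF K (k + n)) k : ℂ) * ψ₀ 1 := by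
  classical
  obtain ⟨W₀, j, hW₀, hcmp⟩ := exists_cmp K (k := k) (n := n) rfl
  obtain ⟨χ, hχ, hχ1, hχz⟩ := H749.Two.exists_hc hcmp (c := c) hc hW₀ hψ (fun W' hW' h1 h2 =>
    no_orth (CForm.spF K (k + n)) (k := k) (by
      rw [finrank_fintype_fun_eq_card, Fintype.card_sum, Fintype.card_fin]
      omega) hW₀ hW' h1 h2)
  have hfin : Finite (Matrix.symplecticGroup (Fin (k + n)) K) := inferInstance
  have hχ' : IsIrrCharacter _ (χ ∘ (isoSp (k + n) K).toMonoidHom) :=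
    Core.isIrr_comp (isoSp (k + n) K).toMonoidHom (isoSp (k + n) K).surjective hχ
  obtain ⟨η, hη, hη'⟩ := exists_quot (Subgroup.center (Matrix.symplecticGroup (Fin (k + n)) K)) hχ' (fun z hzz => by
    change χ (isoSp (k + n) K z) = χ (isoSp (k + n) K 1)
    rw [map_one]
    rcases Cfsg.Agent.ClassicalGeometry.SympInvolutions.center_eq hzz with h | h
    · have : isoSp (k + n) K z = 1 := by
        apply Subtype.ext
        ext v : 1
        rw [isoSp_apply, h, Matrix.one_mulVec]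
        rfl
      rw [this]
    · refine hχz _ (-1) (fun v => ?_) hz
      rw [isoSp_apply, h, Matrix.neg_mulVec, Matrix.one_mulVec, Units.val_neg, Units.val_one, neg_one_smul])
  refine ⟨η, hη, ?_⟩
  rw [← hχ1]
  have := hη' 1
  rw [QuotientGroup.mk_one] at this
  rw [this]
  change χ (isoSp (k + n) K 1) = χ 1
  rw [map_one]

/-- `-1` in the isometry group -/
noncomputable def negOne (n : ℕ) : (CForm.spF K n).iso := isoSp n K ⟨-1, by
  rw [SymplecticGroup.mem_iff]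
  simp⟩

theorem negOne_apply (n : ℕ) (x : Fin n ⊕ Fin n → K) :
    ((negOne K n : (CForm.spF K n).iso) : (Fin n ⊕ Fin n → K) ≃ₗ[K] (Fin n ⊕ Fin n → K)) x = -x := by
  unfold negOne
  rw [isoSp_apply]
  change Matrix.mulVec (-1) x = -x
  rw [Matrix.neg_mulVec, Matrix.one_mulVec]

theorem eq_negOne {n : ℕ} {z : (CForm.spF K n).iso}
    (hz : ∀ x, (z : (Fin n ⊕ Fin n → K) ≃ₗ[K] (Fin n ⊕ Fin n → K)) x = ((-1 : Kˣ) : K) • x) : z = negOne K n := by
  apply Subtype.ext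
  ext x : 1
  rw [hz, negOne_apply, Units.val_neg, Units.val_one, neg_one_smul]

theorem negOne_center (n : ℕ) : negOne K n ∈ Subgroup.center (CForm.spF K n).iso := by
  rw [Subgroup.mem_center_iff]
  intro g
  apply Subtype.ext
  ext x : 1
  change (g : (Fin n ⊕ Fin n → K) ≃ₗ[K] (Fin n ⊕ Fin n → K)) (((negOne K n : (CForm.spF K n).iso) : (Fin n ⊕ Fin n → K) ≃ₗ[K] (Fin n ⊕ Fin n → K)) x) = ((negOne K n : (CForm.spF K n).iso) : (Fin n ⊕ Fin n → K) ≃ₗ[K] (Fin n ⊕ Fin n → K)) ((g : (Fin n ⊕ Fin n → K) ≃ₗ[K] (Fin n ⊕ Fin n → K)) x)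
  rw [negOne_apply, negOne_apply, map_neg]

theorem negOne_mul (n : ℕ) : negOne K n * negOne K n = 1 := by
  apply Subtype.ext
  ext x : 1
  change ((negOne K n : (CForm.spF K n).iso) : (Fin n ⊕ Fin n → K) ≃ₗ[K] (Fin n ⊕ Fin n → K)) (((negOne K n : (CForm.spF K n).iso) : (Fin n ⊕ Fin n → K) ≃ₗ[K] (Fin n ⊕ Fin n → K)) x) = x
  rw [negOne_apply, negOne_apply, neg_neg]

theorem negOne_ne {n : ℕ} (hn : 0 < n) (h2 : (2 : K) ≠ 0) : negOne K n ≠ 1 := by
  classical
  intro h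
  have h1 := negOne_apply K n (Pi.single (Sum.inl ⟨0, hn⟩) 1)
  rw [h] at h1
  change (Pi.single (Sum.inl ⟨0, hn⟩) 1 : Fin n ⊕ Fin n → K) = _ at h1
  have h3 := congrFun h1 (Sum.inl ⟨0, hn⟩)
  rw [Pi.neg_apply, Pi.single_eq_same] at h3
  apply h2
  linear_combination h3

theorem scalar_center {k : ℕ} (a : Kˣ) : Matrix.GeneralLinearGroup.scalar (Fin k) a ∈ Subgroup.center (GL (Fin k) K) := by
  rw [Subgroup.mem_center_iff]
  intro g
  apply Units.ext
  rw [Units.val_mul, Units.val_mul, Matrix.GeneralLinearGroup.coe_scalar]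
  exact (Matrix.scalar_commute (a : K) (fun r => Commute.all _ _) g.1).eq.symm

/-- the signs of the central characters can be matched -/
theorem exists_psi {n : ℕ} (hn : 0 < n) (h2 : (2 : K) ≠ 0) {k : ℕ} {c : GL (Fin k) K → ℂ} (hc : IsIrrCharacter _ c) :
    ∃ ψ₀ : (CForm.spF K n).iso → ℂ, IsIrrCharacter _ ψ₀ ∧
      c (Matrix.GeneralLinearGroup.scalar (Fin k) (-1)) * ψ₀ (negOne K n) = c 1 * ψ₀ 1 := by
  classical
  have := finite_iso (CForm.spF K n)
  have h1 := central_pm hc (z := Matrix.GeneralLinearGroup.scalar (Fin k) (-1)) (scalar_center K _) (by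
    rw [← map_mul]; simp)
  rcases h1 with h1 | h1
  · exact ⟨1, Core.isIrr_one, by rw [h1]; rfl⟩
  · obtain ⟨μ, hμ, hμ'⟩ := exists_irr_sep (negOne_ne K hn h2)
    rcases central_pm hμ (negOne_center K n) (negOne_mul K n) with h3 | h3
    · exact absurd h3 hμ'
    · exact ⟨μ, hμ, by rw [h1, h3]; ring⟩

theorem charP_three (h : Nat.card K = 3) : CharP K 3 := by
  obtain ⟨p, hp⟩ := CharP.exists K
  have hpr : p.Prime := (CharP.char_is_prime_or_zero K p).resolve_right (CharP.char_ne_zero_of_finite K p)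
  have : Fact p.Prime := ⟨hpr⟩
  obtain ⟨s, hs⟩ := card_pow K p
  rw [h] at hs
  have h1 : 3 ∣ p ^ s := ⟨1, by rw [← hs]⟩
  have h2 := (Nat.prime_dvd_prime_iff_eq Nat.prime_three hpr).1 (Nat.prime_three.dvd_of_dvd_pow h1)
  rw [h2]
  exact hp

theorem two_ne_zero_three (h : Nat.card K = 3) : (2 : K) ≠ 0 := by
  have := charP_three K h
  intro h2
  have h3 : ((2 : ℕ) : K) = 0 := by exact_mod_cast h2
  rw [CharP.cast_eq_zero_iff K 3] at h3
  omega

/-- **`PSp_6(3)`** -/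
theorem many_six_three (h : Nat.card K = 3) : Many 2 (PSp 3 K) 3 := by
  classical
  have hcp := charP_three K h
  have hf3 : Fact (Nat.Prime 3) := ⟨Nat.prime_three⟩
  obtain ⟨χ₁, f, hχ₁, hf, hf2, -, -, hf'⟩ := exists_rank3 K (p := 3) (by norm_num) (m := 3) (by norm_num)
  have hfv := hf' rfl h
  obtain ⟨χ₂, hχ₂, hg⟩ := exists_char_dg K (m := 3) (k := 3) (by norm_num) le_rfl (fun h' => by omega) (fun h' => by omega)
    (fun h' => by omega)
  have hd3 := dg_sp K (m := 3) (k := 3) le_rfl (by norm_num)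
  have hd2 := dg_sp K (m := 3) (k := 2) (by norm_num) (by norm_num)
  rw [h] at hd3 hd2
  norm_num [Finset.prod_range_succ] at hd3 hd2
  obtain ⟨c, hc⟩ := exists_cus (K := K) 2 (by norm_num) 1 one_ne_zero (fun i hi hi' => by
      obtain rfl : i = 1 := by omega
      rw [h]; norm_num) (fun i hi => by
      rw [h]
      interval_cases i <;> norm_num)
  obtain ⟨ψ₀, hψ, hψ'⟩ := exists_psi K (n := 1) one_pos (two_ne_zero_three K h) hc.irr
  obtain ⟨χ₃, hχ₃, hχ₃'⟩ := psp_char_hc K (n := 1) (k := 2) (by norm_num) hc hψ (fun z' hz' => by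
    rw [eq_negOne K hz']; exact hψ')
  have := finite_iso (CForm.spF K 1)
  obtain ⟨t, ht0, ht⟩ := Core.isIrr_apply_one hψ
  have hd3' : dg (CForm.spF K 3) 3 = 17920 := by omega
  have hd2' : dg (CForm.spF K 3) 2 = 7280 := by omega
  have hd2'' : dg (CForm.spF K (2 + 1)) 2 = 7280 := hd2'
  rw [hd2'', ht] at hχ₃'
  have hcard : ({168, 17920, 7280 * t} : Finset ℕ).card = 3 := by
    rw [Finset.card_eq_three]
    exact ⟨_, _, _, by norm_num, by omega, by omega, rfl⟩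
  have key : Many 2 (PSp 3 K) ({168, 17920, 7280 * t} : Finset ℕ).card := by
    refine Many.of_finset ?_
    intro d hd
    simp only [Finset.mem_insert, Finset.mem_singleton] at hd
    rcases hd with rfl | rfl | rfl
    · exact ⟨by norm_num, χ₁, hχ₁, by rw [hf, hfv]⟩
    · exact ⟨by norm_num, χ₂, hχ₂, by rw [hg, hd3']⟩
    · exact ⟨⟨3640 * t, by ring⟩, χ₃, hχ₃, by rw [hχ₃']; push_cast; ring⟩
  rwa [hcard] at key

open scoped commutatorElement in
/-- a character of `SL_2(K)` of degree `> 1`, trivial on `-1` -/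
theorem exists_psi_nonlin : ∃ ψ₀ : (CForm.spF K 1).iso → ℂ, IsIrrCharacter _ ψ₀ ∧ ψ₀ (negOne K 1) = ψ₀ 1 ∧ ψ₀ 1 ≠ 1 := by
  classical
  have := finite_iso (CForm.spF K 1)
  obtain ⟨A, hA⟩ : ∃ A : Matrix (Fin 1 ⊕ Fin 1) (Fin 1 ⊕ Fin 1) K, A = Matrix.fromBlocks 1 1 0 1 := ⟨_, rfl⟩
  have hAm : A ∈ Matrix.symplecticGroup (Fin 1) K := by
    rw [S0244.result, hA, Matrix.det_fromBlocks_zero₂₁]
    simp
  obtain ⟨U, hU⟩ : ∃ U, U = isoSp 1 K ⟨A, hAm⟩ := ⟨_, rfl⟩
  obtain ⟨W, hW⟩ : ∃ W, W = isoSp 1 K ⟨Matrix.J (Fin 1) K, SymplecticGroup.J_mem _ _⟩ := ⟨_, rfl⟩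
  have hUv : ∀ v, (U : (Fin 1 ⊕ Fin 1 → K) ≃ₗ[K] (Fin 1 ⊕ Fin 1 → K)) v = A.mulVec v := by
    intro v; rw [hU]; exact isoSp_apply _ v
  have hWv : ∀ v, (W : (Fin 1 ⊕ Fin 1 → K) ≃ₗ[K] (Fin 1 ⊕ Fin 1 → K)) v = (Matrix.J (Fin 1) K).mulVec v := by
    intro v; rw [hW]; exact isoSp_apply _ v
  let N : Subgroup (CForm.spF K 1).iso := Subgroup.zpowers (negOne K 1)
  have hNn : N.Normal := ⟨fun n hn g => by
    obtain ⟨i, rfl⟩ := Subgroup.mem_zpowers_iff.1 hn
    have h1 : negOne K 1 ^ i ∈ Subgroup.center (CForm.spF K 1).iso := Subgroup.zpow_mem _ (negOne_center K 1) i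
    rw [Subgroup.mem_center_iff.1 h1 g, mul_inv_cancel_right]
    exact hn⟩
  have hmem : ∀ n ∈ N, n = 1 ∨ n = negOne K 1 := by
    intro n hn
    obtain ⟨i, rfl⟩ := Subgroup.mem_zpowers_iff.1 hn
    have h2 : negOne K 1 ^ (2 : ℤ) = 1 := by
      rw [zpow_two, negOne_mul]
    rcases Int.even_or_odd' i with ⟨l, hl | hl⟩
    · left
      rw [hl, zpow_mul, h2, one_zpow]
    · right
      rw [hl, zpow_add, zpow_mul, h2, one_zpow, one_mul, zpow_one]
  have hv1 : ((U * W : (CForm.spF K 1).iso) : (Fin 1 ⊕ Fin 1 → K) ≃ₗ[K] (Fin 1 ⊕ Fin 1 → K))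
      (Pi.single (Sum.inl 0) 1) (Sum.inl 0) = 1 := by
    change (U : (Fin 1 ⊕ Fin 1 → K) ≃ₗ[K] (Fin 1 ⊕ Fin 1 → K)) ((W : (Fin 1 ⊕ Fin 1 → K) ≃ₗ[K] (Fin 1 ⊕ Fin 1 → K)) _) _ = _
    rw [hUv, hWv, hA, Matrix.J]
    simp [Matrix.mulVec, dotProduct, Matrix.fromBlocks]
  have hv2 : ((W * U : (CForm.spF K 1).iso) : (Fin 1 ⊕ Fin 1 → K) ≃ₗ[K] (Fin 1 ⊕ Fin 1 → K))
      (Pi.single (Sum.inl 0) 1) (Sum.inl 0) = 0 := by
    change (W : (Fin 1 ⊕ Fin 1 → K) ≃ₗ[K] (Fin 1 ⊕ Fin 1 → K)) ((U : (Fin 1 ⊕ Fin 1 → K) ≃ₗ[K] (Fin 1 ⊕ Fin 1 → K)) _) _ = _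
    rw [hUv, hWv, hA, Matrix.J]
    simp [Matrix.mulVec, dotProduct, Matrix.fromBlocks]
  have hg : ⁅U, W⁆ ∉ N := by
    intro hN
    have h1 : U * W = ⁅U, W⁆ * (W * U) := by
      rw [commutatorElement_def]
      group
    rcases hmem _ hN with h2 | h2
    · rw [h2, one_mul] at h1
      rw [h1, hv2] at hv1
      exact zero_ne_one hv1
    · rw [h2] at h1
      rw [h1] at hv1
      change ((negOne K 1 : (CForm.spF K 1).iso) : (Fin 1 ⊕ Fin 1 → K) ≃ₗ[K] (Fin 1 ⊕ Fin 1 → K))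
        (((W * U : (CForm.spF K 1).iso) : (Fin 1 ⊕ Fin 1 → K) ≃ₗ[K] (Fin 1 ⊕ Fin 1 → K)) _) _ = _ at hv1
      rw [negOne_apply, Pi.neg_apply, hv2, neg_zero] at hv1
      exact zero_ne_one hv1
  have hg1 : (QuotientGroup.mk' N) ⁅U, W⁆ ≠ 1 := by
    intro h
    exact hg ((QuotientGroup.eq_one_iff _).1 h)
  obtain ⟨μ, hμ, hμ'⟩ := exists_irr_sep hg1
  have hψ := Core.isIrr_comp (QuotientGroup.mk' N) (QuotientGroup.mk'_surjective N) hμ
  refine ⟨μ ∘ QuotientGroup.mk' N, hψ, ?_, fun h1 => ?_⟩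
  · rw [Function.comp_apply, Function.comp_apply, map_one]
    congr 1
    exact (QuotientGroup.eq_one_iff _).2 (Subgroup.mem_zpowers _)
  · obtain ⟨f, hf⟩ := Linear.exists_hom_of_isIrrCharacter hψ h1
    apply hμ'
    have h2 := congrFun hf ⁅U, W⁆
    have h3 := congrFun hf 1
    rw [Function.comp_apply] at h2 h3
    rw [h2]
    rw [map_one] at h3
    rw [h3, map_one, map_commutatorElement]
    have : ⁅f U, f W⁆ = 1 := by
      rw [commutatorElement_eq_one_iff_mul_comm, mul_comm]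
    rw [this]

/-- **`PSp_8(3)`** -/
theorem many_eight_three (h : Nat.card K = 3) : Many 2 (PSp 4 K) 4 := by
  classical
  have hcp := charP_three K h
  have hf3 : Fact (Nat.Prime 3) := ⟨Nat.prime_three⟩
  obtain ⟨χ₁, f, hχ₁, hf, hf2, -, hf', -⟩ := exists_rank3 K (p := 3) (by norm_num) (m := 4) (by norm_num)
  have hfv := hf' rfl h
  obtain ⟨χ₂, hχ₂, hg⟩ := exists_char_dg K (m := 4) (k := 3) (by norm_num) (by norm_num) (fun h' => by omega) (fun h' => by omega)
    (fun h' => by omega)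
  obtain ⟨χ₄, hχ₄, hg4⟩ := exists_char_dg K (m := 4) (k := 4) (by norm_num) le_rfl (fun h' => by omega) (fun h' => by omega)
    (fun h' => by omega)
  have hd4 := dg_sp K (m := 4) (k := 4) le_rfl (by norm_num)
  have hd3 := dg_sp K (m := 4) (k := 3) (by norm_num) (by norm_num)
  rw [h] at hd3 hd4
  norm_num [Finset.prod_range_succ] at hd3 hd4
  obtain ⟨c, hc⟩ := exists_cus_sq K rfl 3 (by norm_num) (fun _ => le_rfl) (fun _ => le_rfl) (fun _ => by norm_num)
  obtain ⟨ψ₀, hψ, hψ', hψ1⟩ := exists_psi_nonlin K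
  obtain ⟨χ₃, hχ₃, hχ₃'⟩ := psp_char_hc K (n := 1) (k := 3) (by norm_num) hc hψ (fun z' hz' => by
    rw [eq_negOne K hz', hψ', hc.scal (-1) (neg_one_sq)])
  have := finite_iso (CForm.spF K 1)
  obtain ⟨t, ht0, ht⟩ := Core.isIrr_apply_one hψ
  have ht1 : t ≠ 1 := by
    rintro rfl
    exact hψ1 (by rw [ht, Nat.cast_one])
  have hd3' : dg (CForm.spF K 4) 3 = 14694400 := by omega
  have hd4' : dg (CForm.spF K 4) 4 = 38205440 := by omega
  have hd3'' : dg (CForm.spF K (3 + 1)) 3 = 14694400 := hd3'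
  rw [hd3'', ht] at hχ₃'
  have hcard : ({1680, 14694400, 38205440, 14694400 * t} : Finset ℕ).card = 4 := by
    rw [Finset.card_insert_of_notMem, Finset.card_insert_of_notMem, Finset.card_insert_of_notMem, Finset.card_singleton]
    · simp only [Finset.mem_singleton]
      omega
    · simp only [Finset.mem_insert, Finset.mem_singleton]
      omega
    · simp only [Finset.mem_insert, Finset.mem_singleton]
      omega
  have key : Many 2 (PSp 4 K) ({1680, 14694400, 38205440, 14694400 * t} : Finset ℕ).card := by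
    refine Many.of_finset ?_
    intro d hd
    simp only [Finset.mem_insert, Finset.mem_singleton] at hd
    rcases hd with rfl | rfl | rfl | rfl
    · exact ⟨by norm_num, χ₁, hχ₁, by rw [hf, hfv]⟩
    · exact ⟨by norm_num, χ₂, hχ₂, by rw [hg, hd3']⟩
    · exact ⟨by norm_num, χ₄, hχ₄, by rw [hg4, hd4']⟩
    · exact ⟨⟨7347200 * t, by ring⟩, χ₃, hχ₃, by rw [hχ₃']; push_cast; ring⟩
  rwa [hcard] at key

end sp

end Cfsg.Agent.H362.Dl
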